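import Cfsg.Agent.H614.AMod.Ten
import Mathlib.FieldTheory.Finite.Basic

/-!
# The Frobenius map on `K̄ ⊗ V`, `K` the field with two elements (helper274)
-/

set_option autoImplicit false
set_option linter.unusedSectionVars false

namespace Cfsg.Agent.H274.EA

open Cfsg.Agent.H614.AMod TensorProduct

variable {K V G : Type*} [Field K] [Fintype K] [AddCommGroup V] [Module K V] [Group G] (ρ : Representation K G V)

/-- the Frobenius map of `K̄ ⊗ V` -/
noncomputable def Fr : AlgebraicClosure K ⊗[K] V →ₗ[K] AlgebraicClosure K ⊗[K] V :=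
  LinearMap.rTensor V (FiniteField.frobeniusAlgHom K (AlgebraicClosure K)).toLinearMap

theorem Fr_tmul (a : AlgebraicClosure K) (v : V) : Fr (a ⊗ₜ[K] v) = (a ^ Fintype.card K) ⊗ₜ v := rfl

theorem Fr_injective : Function.Injective (Fr (K := K) (V := V)) := by
  apply Module.Flat.rTensor_preserves_injective_linearMap
  exact (FiniteField.frobeniusAlgHom K (AlgebraicClosure K)).injective

theorem Fr_smul (c : AlgebraicClosure K) (x : AlgebraicClosure K ⊗[K] V) : Fr (c • x) = c ^ Fintype.card K • Fr x := by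
  induction x using TensorProduct.induction_on with
  | zero => rw [smul_zero, map_zero, smul_zero]
  | tmul a v => rw [TensorProduct.smul_tmul', Fr_tmul, Fr_tmul, TensorProduct.smul_tmul', smul_eq_mul, smul_eq_mul, mul_pow]
  | add x y hx hy => rw [smul_add, map_add, hx, hy, map_add, smul_add]

theorem Fr_bc (g : G) (x : AlgebraicClosure K ⊗[K] V) : Fr (bc ρ g x) = bc ρ g (Fr x) := by
  induction x using TensorProduct.induction_on with
  | zero => rw [map_zero, map_zero, map_zero]
  | tmul a v => rw [bc_tmul, Fr_tmul, Fr_tmul, bc_tmul]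
  | add x y hx hy => rw [map_add, map_add, hx, hy, map_add, map_add]

theorem Fr_eg {g : G} {c : AlgebraicClosure K} {x : AlgebraicClosure K ⊗[K] V} (h : x ∈ eg (bc ρ) g c) :
    Fr x ∈ eg (bc ρ) g (c ^ Fintype.card K) := by
  rw [mem_eg] at h ⊢
  rw [← Fr_bc, h, Fr_smul]

theorem Fr_ne {x : AlgebraicClosure K ⊗[K] V} (h : x ≠ 0) : Fr x ≠ 0 := by
  intro h0
  exact h (Fr_injective (h0.trans (map_zero _).symm))

end Cfsg.Agent.H274.EA
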