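import Cfsg.Agent.H545.EA.Stmts
import Cfsg.Agent.H274.EA.Fr

/-!
# S3499, V-ALT, EA3: representations of `Alt_c`, `c ≥ 12`, of degree at most 23 over the field with two elements (helper274)

`ea3 : H545.EA.EA3` : disjoint 3-cycles act independently.
-/

set_option autoImplicit false
set_option linter.unusedSectionVars false

namespace Cfsg.Agent.H274.EA

open Equiv Equiv.Perm Cfsg.Agent.H614.AMod TensorProduct

namespace E12

abbrev A12 := alternatingGroup (Fin 12)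

/-- `(0 1 2 3 4)` -/
def y : A12 := ⟨swap 0 1 * swap 1 2 * swap 2 3 * swap 3 4, by rw [mem_alternatingGroup]; decide⟩
/-- `(5 6 7 8 9 10 11)` -/
def z : A12 := ⟨swap 5 6 * swap 6 7 * swap 7 8 * swap 8 9 * swap 9 10 * swap 10 11, by
  rw [mem_alternatingGroup]; decide⟩
/-- `x ↦ 2x` on the five points, `x ↦ 3x` on the seven points -/
def u : A12 := ⟨⟨![0, 2, 4, 1, 3, 5, 8, 11, 7, 10, 6, 9], ![0, 3, 1, 4, 2, 5, 10, 8, 6, 11, 9, 7], by decide,
  by decide⟩, by rw [mem_alternatingGroup]; decide⟩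

theorem yz : y * z = z * y := by decide
theorem y5 : y ^ 5 = 1 := by decide +kernel
theorem z7 : z ^ 7 = 1 := by decide +kernel
theorem uy : u * y = y ^ 2 * u := by decide
theorem uz : u * z = z ^ 3 * u := by decide +kernel

theorem y23 : (y ^ 2) ^ 3 = y := by
  rw [← pow_mul, show 2 * 3 = 5 + 1 from rfl, pow_succ, y5, one_mul]
theorem z35 : (z ^ 3) ^ 5 = z := by
  rw [← pow_mul, show 3 * 5 = 7 * 2 + 1 from rfl, pow_succ, pow_mul, z7, one_pow, one_mul]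

section N

variable {K V : Type} [Field K] [Fintype K] [AddCommGroup V] [Module K V] [FiniteDimensional K V]
  (ρ : Representation K A12 V)

/-- the weight `(i, j)` occurs -/
def N (ζ η : AlgebraicClosure K) (i j : ℕ) : Prop :=
  ∃ v : AlgebraicClosure K ⊗[K] V, v ≠ 0 ∧ v ∈ eg (bc ρ) y (ζ ^ i) ∧ v ∈ eg (bc ρ) z (η ^ j)

variable {ρ}

theorem zpow_mod {R : Type*} [Monoid R] {ζ : R} {n : ℕ} (hζ : ζ ^ n = 1) (i : ℕ) : ζ ^ (i % n) = ζ ^ i := by
  conv_rhs => rw [← Nat.mod_add_div i n, pow_add, pow_mul, hζ, one_pow, mul_one]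

theorem N_mod {ζ η : AlgebraicClosure K} (hζ : ζ ^ 5 = 1) (hη : η ^ 7 = 1) {i j : ℕ} :
    N ρ ζ η (i % 5) (j % 7) ↔ N ρ ζ η i j := by
  unfold N
  rw [zpow_mod hζ, zpow_mod hη]

theorem N_f (h2 : Fintype.card K = 2) {ζ η : AlgebraicClosure K} {i j : ℕ} (h : N ρ ζ η i j) :
    N ρ ζ η (i * 2) (j * 2) := by
  obtain ⟨v, h0, h1, h3⟩ := h
  have h4 := Fr_eg ρ h1
  have h5 := Fr_eg ρ h3
  rw [h2, ← pow_mul] at h4 h5
  exact ⟨Fr v, Fr_ne h0, h4, h5⟩

theorem N_u {ζ η : AlgebraicClosure K} {i j : ℕ} (h : N ρ ζ η i j) : N ρ ζ η (i * 3) (j * 5) := by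
  obtain ⟨v, h0, h1, h2⟩ := h
  have h3 := pow_eg (bc ρ) (eg_move (bc ρ) uy h1) 3
  have h4 := pow_eg (bc ρ) (eg_move (bc ρ) uz h2) 5
  rw [y23, ← pow_mul] at h3
  rw [z35, ← pow_mul] at h4
  exact ⟨bc ρ u v, E10.rho_ne_zero u h0, h3, h4⟩

/-- the group of moves on the weights -/
def mv (a b : ℕ) (p : ℕ × ℕ) : ℕ × ℕ :=
  (fun p : ℕ × ℕ => ((p.1 * 2) % 5, (p.2 * 2) % 7))^[a] ((fun p : ℕ × ℕ => ((p.1 * 3) % 5, (p.2 * 5) % 7))^[b] p)

theorem N_mv (h2 : Fintype.card K = 2) {ζ η : AlgebraicClosure K} (hζ : ζ ^ 5 = 1) (hη : η ^ 7 = 1) {p : ℕ × ℕ}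
    (h : N ρ ζ η p.1 p.2) (a b : ℕ) : N ρ ζ η (mv a b p).1 (mv a b p).2 := by
  unfold mv
  have hb : ∀ b : ℕ, N ρ ζ η ((fun p : ℕ × ℕ => ((p.1 * 3) % 5, (p.2 * 5) % 7))^[b] p).1
      ((fun p : ℕ × ℕ => ((p.1 * 3) % 5, (p.2 * 5) % 7))^[b] p).2 := by
    intro b
    induction b with
    | zero => exact h
    | succ b ih =>
      rw [Function.iterate_succ_apply']
      exact (N_mod hζ hη).mpr (N_u ih)
  induction a with
  | zero => exact hb b
  | succ a ih =>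
    rw [Function.iterate_succ_apply']
    exact (N_mod hζ hη).mpr (N_f h2 ih)

theorem reach : ∀ (i : Fin 4) (j : Fin 6) (i' : Fin 4) (j' : Fin 6), ∃ a : Fin 12, ∃ b : Fin 2,
    mv a b ((i : ℕ) + 1, (j : ℕ) + 1) = ((i' : ℕ) + 1, (j' : ℕ) + 1) := by
  decide +kernel

theorem N_all (h2 : Fintype.card K = 2) {ζ η : AlgebraicClosure K} (hζ : ζ ^ 5 = 1) (hη : η ^ 7 = 1) {i : Fin 4}
    {j : Fin 6} (h : N ρ ζ η ((i : ℕ) + 1) ((j : ℕ) + 1)) (i' : Fin 4) (j' : Fin 6) :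
    N ρ ζ η ((i' : ℕ) + 1) ((j' : ℕ) + 1) := by
  obtain ⟨a, b, hab⟩ := reach i j i' j'
  have h1 := N_mv (p := ((i : ℕ) + 1, (j : ℕ) + 1)) h2 hζ hη h a b
  rwa [hab] at h1

theorem inf_eq_bot (h2 : Fintype.card K = 2) (hle : Module.finrank K V ≤ 23) :
    U (bc ρ) y ⊓ U (bc ρ) z = ⊥ := by
  by_contra hne
  have hchar : CharP K 2 := by
    obtain ⟨p, hp⟩ := CharP.exists K
    have := CharP.char_is_prime K p
    obtain ⟨f, -, hf⟩ := FiniteField.card K p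
    rw [h2] at hf
    have h3 : p = 2 := by
      have h4 : p ∣ 2 := hf ▸ dvd_pow_self p f.ne_zero
      exact (Nat.prime_dvd_prime_iff_eq this Nat.prime_two).1 h4
    rwa [← h3]
  have hchar' : CharP (AlgebraicClosure K) 2 := charP_of_injective_algebraMap (algebraMap K _).injective 2
  have h5' : ((5 : ℕ) : AlgebraicClosure K) ≠ 0 := by
    rw [Ne, CharP.cast_eq_zero_iff (AlgebraicClosure K) 2]
    norm_num
  have h7' : ((7 : ℕ) : AlgebraicClosure K) ≠ 0 := by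
    rw [Ne, CharP.cast_eq_zero_iff (AlgebraicClosure K) 2]
    norm_num
  have i5 : NeZero ((5 : ℕ) : AlgebraicClosure K) := ⟨h5'⟩
  have i7 : NeZero ((7 : ℕ) : AlgebraicClosure K) := ⟨h7'⟩
  obtain ⟨ζ, hζ⟩ := HasEnoughRootsOfUnity.exists_primitiveRoot (AlgebraicClosure K) 5
  obtain ⟨η, hη⟩ := HasEnoughRootsOfUnity.exists_primitiveRoot (AlgebraicClosure K) 7
  have hζ5 : ζ ^ 5 = 1 := hζ.pow_eq_one
  have hη7 : η ^ 7 = 1 := hη.pow_eq_one
  -- a common eigenvector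
  obtain ⟨c, hc⟩ := exists_eig (bc ρ) (((inv_U (bc ρ) (g := y) (h := y) rfl).inf (bc ρ) (inv_U (bc ρ) yz.symm))) hne
  have hin : Inv (bc ρ) (U (bc ρ) y ⊓ U (bc ρ) z ⊓ eg (bc ρ) y c) z :=
    ((inv_U (bc ρ) yz).inf (bc ρ) (inv_U (bc ρ) (g := z) (h := z) rfl)).inf (bc ρ) (inv_eg (bc ρ) yz c)
  obtain ⟨d, hd⟩ := exists_eig (bc ρ) hin hc
  obtain ⟨v, hv, hv0⟩ := (Submodule.ne_bot_iff _).mp hd
  obtain ⟨⟨⟨hvy, hvz⟩, hvc⟩, hvd⟩ := hv
  have hc5 := eig_pow (bc ρ) hvc hv0 y5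
  have hd7 := eig_pow (bc ρ) hvd hv0 z7
  obtain ⟨i, hi, hic⟩ := hζ.eq_pow_of_pow_eq_one hc5
  obtain ⟨j, hj, hjd⟩ := hη.eq_pow_of_pow_eq_one hd7
  have hi0 : i ≠ 0 := by
    rintro rfl
    rw [pow_zero] at hic
    rw [← hic] at hvc
    have h1 : v ∈ U (bc ρ) y ⊓ eg (bc ρ) y 1 := ⟨hvy, hvc⟩
    rw [U_inf_fix (bc ρ) y5 h5'] at h1
    exact hv0 h1
  have hj0 : j ≠ 0 := by
    rintro rfl
    rw [pow_zero] at hjd
    rw [← hjd] at hvd
    have h1 : v ∈ U (bc ρ) z ⊓ eg (bc ρ) z 1 := ⟨hvz, hvd⟩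
    rw [U_inf_fix (bc ρ) z7 h7'] at h1
    exact hv0 h1
  have hN : N ρ ζ η (((⟨i - 1, by omega⟩ : Fin 4) : ℕ) + 1) (((⟨j - 1, by omega⟩ : Fin 6) : ℕ) + 1) := by
    refine ⟨v, hv0, ?_, ?_⟩
    · show v ∈ eg (bc ρ) y (ζ ^ (i - 1 + 1))
      rw [Nat.sub_add_cancel (by omega), hic]
      exact hvc
    · show v ∈ eg (bc ρ) z (η ^ (j - 1 + 1))
      rw [Nat.sub_add_cancel (by omega), hjd]
      exact hvd
  have hall := N_all h2 hζ5 hη7 hN
  choose w hw using fun p : Fin 4 × Fin 6 => hall p.1 p.2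
  have hinj : Function.Injective (fun (p : Fin 4 × Fin 6) (b : Bool) =>
      if b then ζ ^ ((p.1 : ℕ) + 1) else η ^ ((p.2 : ℕ) + 1)) := by
    intro p q hpq
    have h1 := congrFun hpq true
    have h2 := congrFun hpq false
    simp only [if_true, Bool.false_eq_true, if_false] at h1 h2
    have h3 := hζ.pow_inj (by omega) (by omega) h1
    have h4 := hη.pow_inj (by omega) (by omega) h2
    exact Prod.ext (Fin.ext (by omega)) (Fin.ext (by omega))
  have hcard := card_le_of_weights (fun b : Bool => if b then bc ρ y else bc ρ z) (by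
    intro a b
    have h1 : Commute (bc ρ y) (bc ρ z) := rho_comm (bc ρ) yz
    cases a <;> cases b <;> simp [h1, h1.symm]) ⊤ _ hinj w (fun p => (hw p).1) (fun p => Submodule.mem_top) (by
    intro p b
    cases b
    · exact (hw p).2.2
    · exact (hw p).2.1)
  rw [Fintype.card_prod, Fintype.card_fin, Fintype.card_fin, finrank_top, finrank_bc] at hcard
  omega

theorem z_pst (h2 : Fintype.card K = 2) (hle : Module.finrank K V ≤ 23) : z ∈ pst ρ (U ρ y) := by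
  apply pst_of_bc
  intro w hw
  have h1 : bc ρ z w - w ∈ U (bc ρ) y ⊓ U (bc ρ) z :=
    ⟨Submodule.sub_mem _ (inv_U (bc ρ) yz w hw) hw, sub_mem_U (bc ρ) z w⟩
  rw [inf_eq_bot h2 hle] at h1
  exact sub_eq_zero.mp h1

/-- conjugating elements -/
def h1 : A12 := ⟨swap 1 2 * swap 2 3, by rw [mem_alternatingGroup]; decide⟩
def h2 : A12 := ⟨swap 1 3 * swap 3 4, by rw [mem_alternatingGroup]; decide⟩
def k1 : A12 := ⟨swap 6 7 * swap 7 9, by rw [mem_alternatingGroup]; decide⟩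
def k2 : A12 := ⟨swap 5 10 * swap 10 7, by rw [mem_alternatingGroup]; decide⟩
/-- `(0 1 2)` and `(5 6 7)` -/
def g1 : A12 := ⟨swap 0 1 * swap 1 2, by rw [mem_alternatingGroup]; decide⟩
def g2 : A12 := ⟨swap 5 6 * swap 6 7, by rw [mem_alternatingGroup]; decide⟩

theorem g1_eq : g1 = (h1 * y * h1⁻¹) * (h2 * y * h2⁻¹) := by decide
theorem g2_eq : g2 = (k1 * z * k1⁻¹) * (k2 * z * k2⁻¹) := by decide
theorem e11 : (h1 * k1) * y * (h1 * k1)⁻¹ = h1 * y * h1⁻¹ := by decide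
theorem e12 : (h1 * k2) * y * (h1 * k2)⁻¹ = h1 * y * h1⁻¹ := by decide
theorem e21 : (h2 * k1) * y * (h2 * k1)⁻¹ = h2 * y * h2⁻¹ := by decide
theorem e22 : (h2 * k2) * y * (h2 * k2)⁻¹ = h2 * y * h2⁻¹ := by decide
theorem e11' : (h1 * k1) * z * (h1 * k1)⁻¹ = k1 * z * k1⁻¹ := by decide
theorem e12' : (h1 * k2) * z * (h1 * k2)⁻¹ = k2 * z * k2⁻¹ := by decide
theorem e21' : (h2 * k1) * z * (h2 * k1)⁻¹ = k1 * z * k1⁻¹ := by decide
theorem e22' : (h2 * k2) * z * (h2 * k2)⁻¹ = k2 * z * k2⁻¹ := by decide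

theorem g2_pst (hK : Fintype.card K = 2) (hle : Module.finrank K V ≤ 23) : g2 ∈ pst ρ (U ρ g1) := by
  have key := fun h : A12 => pst_conj ρ (h := h) (z_pst (ρ := ρ) hK hle)
  have k11 := key (h1 * k1)
  have k12 := key (h1 * k2)
  have k21 := key (h2 * k1)
  have k22 := key (h2 * k2)
  rw [e11, e11'] at k11
  rw [e12, e12'] at k12
  rw [e21, e21'] at k21
  rw [e22, e22'] at k22
  have k1' := mem_pst_sup ρ k11 k21
  have k2' := mem_pst_sup ρ k12 k22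
  have k3 := Subgroup.mul_mem _ k1' k2'
  rw [← g2_eq] at k3
  rw [g1_eq]
  exact pst_anti ρ (U_mul_le ρ _ _) k3

end N

end E12

open E12

variable {α : Type} [Fintype α] [DecidableEq α]
variable {K V : Type} [Field K] [Fintype K] [AddCommGroup V] [Module K V] [FiniteDimensional K V]
  {ρ : Representation K (alternatingGroup α) V}

/-- the restriction to `Alt (Fin 12)` -/
def res12 (ρ : Representation K (alternatingGroup α) V) (q : Fin 12 ↪ α) : Representation K A12 V :=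
  MonoidHom.comp ρ (ex q)

theorem g2_pst' (h2 : Fintype.card K = 2) (hle : Module.finrank K V ≤ 23) (q : Fin 12 ↪ α) :
    ex q g2 ∈ pst ρ (U ρ (ex q g1)) := by
  intro w hw
  exact g2_pst (ρ := res12 ρ q) h2 hle w hw

/-- rearrangement of twelve points -/
def r12 : Fin 12 ↪ Fin 12 := ⟨![0, 1, 2, 6, 7, 3, 4, 5, 8, 9, 10, 11], by decide⟩

/-- **Field with two elements, degree at least 12.** -/
theorem indep_twelve (h12 : 12 ≤ Fintype.card α) (h2 : Fintype.card K = 2) (hle : Module.finrank K V ≤ 23) :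
    Indep ρ := by
  intro e
  obtain ⟨q, hq⟩ := exists_ext (l := 12) (by omega) h12 e
  have e1 : ex e d1 = ex (r12.trans q) g1 := by
    apply Subtype.ext
    rw [ex_swap2 e 0 1 1 2 d1 rfl, ex_swap2 (r12.trans q) 0 1 1 2 g1 rfl]
    show _ = swap (q 0) (q 1) * swap (q 1) (q 2)
    rw [show q 0 = e 0 from hq 0, show q 1 = e 1 from hq 1, show q 2 = e 2 from hq 2]
  have e2 : ex e d2 = ex (r12.trans q) g2 := by
    apply Subtype.ext
    rw [ex_swap2 e 3 4 4 5 d2 rfl, ex_swap2 (r12.trans q) 5 6 6 7 g2 rfl]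
    show _ = swap (q 3) (q 4) * swap (q 4) (q 5)
    rw [show q 3 = e 3 from hq 3, show q 4 = e 4 from hq 4, show q 5 = e 5 from hq 5]
  rw [e1, e2]
  exact g2_pst' h2 hle _

/-- **EA3.** -/
theorem ea3 : H545.EA.EA3 := by
  intro K V _ _ _ _ c ρ h2 hc hle
  have hfin : Finite K := Nat.finite_of_card_ne_zero (by rw [h2]; norm_num)
  have := Fintype.ofFinite K
  rw [Nat.card_eq_fintype_card] at h2
  exact indep_twelve (by rw [Fintype.card_fin]; exact hc) h2 hle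

end Cfsg.Agent.H274.EA
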